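import Mathlib
import Cfsg.Agent.H29.HB1
import Cfsg.Agent.H29.HB1X.D
import Cfsg.Agent.H29.Quo2

set_option autoImplicit false
set_option maxRecDepth 100000
set_option Elab.async false
set_option linter.all false

namespace H29.HB1X

noncomputable def ly : List Net := [x4, Net.nil, x8]
noncomputable def nx : ℕ → Net := nth Net.nil ((HB1.nl ++ [Net.nil]) ++ dbl ly)
def ivx : List ℕ := [0, 2, 1, 3, 5, 4, 7, 6, 9, 8]
def defs : List (List ℕ) := [[1, 0, 1, 0, 1, 1, 0, 2], [1, 1, 1, 0, 1, 0, 1], [4, 0, 4, 0, 4, 0, 4, 0, 4, 0, 4, 0, 4, 0]]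
theorem hext : chkExt 4 defs HB1.ivl ivx = true := by decide +kernel
theorem hn : NetsOK 126000 nx := netsOK_ext (by rw [nth_snoc_nil]; exact HB1.hn) (by decide +kernel)
theorem hiv : IvOK (sg nx) (ivOf ivx) := ivOK_ext (by rw [nth_snoc_nil]; exact HB1.hiv) hext rfl rfl

end H29.HB1X
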