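import Mathlib
import Cfsg.Agent.H29.HB1X.B

set_option autoImplicit false
set_option maxRecDepth 100000
set_option Elab.async false
set_option linter.all false

namespace H29.HB1X

theorem hS0_0 : chkRelP 126000 17 nx (ivOf ivx) [[5, 1, 0, 1, 0, 1, 1, 0, 2], [9, 4, 0, 4, 0, 4, 0, 4, 0, 4, 0, 4, 0, 4, 0], [8, 8, 8], [0, 8, 0, 8], [8, 1, 9, 2]] 0 = true := by decide +kernel

theorem hS0_1 : chkRelP 126000 17 nx (ivOf ivx) [[5, 1, 0, 1, 0, 1, 1, 0, 2], [9, 4, 0, 4, 0, 4, 0, 4, 0, 4, 0, 4, 0, 4, 0], [8, 8, 8], [0, 8, 0, 8], [8, 1, 9, 2]] 1 = true := by decide +kernel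

theorem hS0_2 : chkRelP 126000 17 nx (ivOf ivx) [[5, 1, 0, 1, 0, 1, 1, 0, 2], [9, 4, 0, 4, 0, 4, 0, 4, 0, 4, 0, 4, 0, 4, 0], [8, 8, 8], [0, 8, 0, 8], [8, 1, 9, 2]] 2 = true := by decide +kernel

theorem hS0_3 : chkRelP 126000 17 nx (ivOf ivx) [[5, 1, 0, 1, 0, 1, 1, 0, 2], [9, 4, 0, 4, 0, 4, 0, 4, 0, 4, 0, 4, 0, 4, 0], [8, 8, 8], [0, 8, 0, 8], [8, 1, 9, 2]] 3 = true := by decide +kernel

theorem hS0_4 : chkRelP 126000 17 nx (ivOf ivx) [[5, 1, 0, 1, 0, 1, 1, 0, 2], [9, 4, 0, 4, 0, 4, 0, 4, 0, 4, 0, 4, 0, 4, 0], [8, 8, 8], [0, 8, 0, 8], [8, 1, 9, 2]] 4 = true := by decide +kernel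

theorem hS0_5 : chkRelP 126000 17 nx (ivOf ivx) [[5, 1, 0, 1, 0, 1, 1, 0, 2], [9, 4, 0, 4, 0, 4, 0, 4, 0, 4, 0, 4, 0, 4, 0], [8, 8, 8], [0, 8, 0, 8], [8, 1, 9, 2]] 5 = true := by decide +kernel

theorem hS0_6 : chkRelP 126000 17 nx (ivOf ivx) [[5, 1, 0, 1, 0, 1, 1, 0, 2], [9, 4, 0, 4, 0, 4, 0, 4, 0, 4, 0, 4, 0, 4, 0], [8, 8, 8], [0, 8, 0, 8], [8, 1, 9, 2]] 6 = true := by decide +kernel

theorem hS0_7 : chkRelP 126000 17 nx (ivOf ivx) [[5, 1, 0, 1, 0, 1, 1, 0, 2], [9, 4, 0, 4, 0, 4, 0, 4, 0, 4, 0, 4, 0, 4, 0], [8, 8, 8], [0, 8, 0, 8], [8, 1, 9, 2]] 7 = true := by decide +kernel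

theorem hS0_8 : chkRelP 126000 17 nx (ivOf ivx) [[5, 1, 0, 1, 0, 1, 1, 0, 2], [9, 4, 0, 4, 0, 4, 0, 4, 0, 4, 0, 4, 0, 4, 0], [8, 8, 8], [0, 8, 0, 8], [8, 1, 9, 2]] 8 = true := by decide +kernel

theorem hS0_9 : chkRelP 126000 17 nx (ivOf ivx) [[5, 1, 0, 1, 0, 1, 1, 0, 2], [9, 4, 0, 4, 0, 4, 0, 4, 0, 4, 0, 4, 0, 4, 0], [8, 8, 8], [0, 8, 0, 8], [8, 1, 9, 2]] 9 = true := by decide +kernel

theorem hS0_10 : chkRelP 126000 17 nx (ivOf ivx) [[5, 1, 0, 1, 0, 1, 1, 0, 2], [9, 4, 0, 4, 0, 4, 0, 4, 0, 4, 0, 4, 0, 4, 0], [8, 8, 8], [0, 8, 0, 8], [8, 1, 9, 2]] 10 = true := by decide +kernel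

theorem hS0_11 : chkRelP 126000 17 nx (ivOf ivx) [[5, 1, 0, 1, 0, 1, 1, 0, 2], [9, 4, 0, 4, 0, 4, 0, 4, 0, 4, 0, 4, 0, 4, 0], [8, 8, 8], [0, 8, 0, 8], [8, 1, 9, 2]] 11 = true := by decide +kernel

theorem hS0_12 : chkRelP 126000 17 nx (ivOf ivx) [[5, 1, 0, 1, 0, 1, 1, 0, 2], [9, 4, 0, 4, 0, 4, 0, 4, 0, 4, 0, 4, 0, 4, 0], [8, 8, 8], [0, 8, 0, 8], [8, 1, 9, 2]] 12 = true := by decide +kernel

theorem hS0_13 : chkRelP 126000 17 nx (ivOf ivx) [[5, 1, 0, 1, 0, 1, 1, 0, 2], [9, 4, 0, 4, 0, 4, 0, 4, 0, 4, 0, 4, 0, 4, 0], [8, 8, 8], [0, 8, 0, 8], [8, 1, 9, 2]] 13 = true := by decide +kernel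

theorem hS0_14 : chkRelP 126000 17 nx (ivOf ivx) [[5, 1, 0, 1, 0, 1, 1, 0, 2], [9, 4, 0, 4, 0, 4, 0, 4, 0, 4, 0, 4, 0, 4, 0], [8, 8, 8], [0, 8, 0, 8], [8, 1, 9, 2]] 14 = true := by decide +kernel

theorem hS0_15 : chkRelP 126000 17 nx (ivOf ivx) [[5, 1, 0, 1, 0, 1, 1, 0, 2], [9, 4, 0, 4, 0, 4, 0, 4, 0, 4, 0, 4, 0, 4, 0], [8, 8, 8], [0, 8, 0, 8], [8, 1, 9, 2]] 15 = true := by decide +kernel

theorem hS0_16 : chkRelP 126000 17 nx (ivOf ivx) [[5, 1, 0, 1, 0, 1, 1, 0, 2], [9, 4, 0, 4, 0, 4, 0, 4, 0, 4, 0, 4, 0, 4, 0], [8, 8, 8], [0, 8, 0, 8], [8, 1, 9, 2]] 16 = true := by decide +kernel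

theorem ch : chkChain 126000 17 nx [(0, 17, 126000, [1]),
 (1, 5, 6, [])] [0, 1, 2] = true := by decide +kernel

end H29.HB1X
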